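import Cfsg.Agent.Cov.Sn
import Cfsg.Agent.PLoc.Transfer2

/-! Central extensions of alternating groups. -/

set_option autoImplicit false

namespace Cfsg.Agent.Cov

open Subgroup Equiv

variable {α : Type*} [Fintype α] [DecidableEq α] {H : Type*} [Group H]

theorem pick (l : List α) (h : l.length < Fintype.card α) : ∃ z, z ∉ l := by
  by_contra hne
  push Not at hne
  have := Finset.card_le_card (s := Finset.univ) (t := l.toFinset) (fun z _ => by simpa using hne z)
  exact absurd (this.trans (List.toFinset_card_le l)) (by simpa using h)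

omit [Fintype α] in
theorem conj_c3 (σ : Perm α) (a b c : α) :
    σ * (swap a b * swap a c) * σ⁻¹ = swap (σ a) (σ b) * swap (σ a) (σ c) := by
  rw [swap_apply_apply, swap_apply_apply]; group

omit [Fintype α] in
theorem swap_comm_disj {a b c d : α} (h1 : c ≠ a) (h2 : c ≠ b) (h3 : d ≠ a) (h4 : d ≠ b) :
    swap a b * swap c d = swap c d * swap a b := by
  rw [mul_swap_eq_swap_mul, swap_apply_of_ne_of_ne h1 h2, swap_apply_of_ne_of_ne h3 h4]

omit [Fintype α] in
theorem c3_mul {o s i j : α} (h1 : i ≠ o) (h2 : i ≠ s) :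
    swap o s * swap o i * (swap o s * swap o j) = swap s i * swap o j := by
  rw [← mul_assoc, swap_comm o i, swap_mul_swap_mul_swap h1 h2]

/-- a system of canonical lifts of the three-cycles -/
structure Lifts (π : H →* alternatingGroup α) (P : H → Prop) : Prop where
  surj : Function.Surjective π
  cen : π.ker ≤ center H
  conj : ∀ g x, P x → P (g * x * g⁻¹)
  cube : ∀ x, P x → x * x * x = 1
  uniq : ∀ x y, P x → P y → π x = π y → x = y
  ex : ∀ a b c, a ≠ b → a ≠ c → b ≠ c → ∃ x, P x ∧ (π x : Perm α) = swap a b * swap a c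

theorem exists_lift {π : H →* alternatingGroup α} (h : Function.Surjective π) {σ : Perm α}
    (hσ : Perm.sign σ = 1) : ∃ g, (π g : Perm α) = σ := by
  obtain ⟨g, hg⟩ := h ⟨σ, hσ⟩
  exact ⟨g, by rw [hg]⟩

namespace Lifts

variable {π : H →* alternatingGroup α} {P : H → Prop} (h : Lifts π P)
include h

omit h in
theorem sq_mem {o s i j : α} (hs : s ≠ o) (h1 : i ≠ o) (h2 : i ≠ s) (h3 : j ≠ o) (h4 : j ≠ s)
    (h5 : i ≠ j) {x y : H} (hx : (π x : Perm α) = swap o s * swap o i)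
    (hy : (π y : Perm α) = swap o s * swap o j) : x * y * x * y ∈ π.ker := by
  refine Subtype.ext ?_
  simp only [map_mul, Subgroup.coe_mul, hx, hy, OneMemClass.coe_one]
  rw [mul_assoc _ (swap o s * swap o i), c3_mul h1 h2, mul_assoc, ← mul_assoc (swap o j),
    ← swap_comm_disj hs.symm h1.symm h4 h5.symm]
  simp [mul_assoc]

theorem conj_eq {g x y : H} (hx : P x) (hy : P y) {a b c : α}
    (e1 : (π x : Perm α) = swap a b * swap a c)
    (e2 : (π y : Perm α) = swap ((π g : Perm α) a) ((π g : Perm α) b) *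
      swap ((π g : Perm α) a) ((π g : Perm α) c)) : g * x * g⁻¹ = y := by
  refine h.uniq _ _ (h.conj g x hx) hy (Subtype.ext ?_)
  rw [e2, ← conj_c3, ← e1]; simp

theorem z_eq {o s i j k l : α} (hs : s ≠ o) (h1 : i ≠ o) (h2 : i ≠ s) (h3 : j ≠ o) (h4 : j ≠ s)
    (h5 : i ≠ j) (g1 : k ≠ o) (g2 : k ≠ s) (g3 : l ≠ o) (g4 : l ≠ s) (g5 : k ≠ l) {x y x' y' : H}
    (px : P x) (py : P y) (px' : P x') (py' : P y') (hx : (π x : Perm α) = swap o s * swap o i)
    (hy : (π y : Perm α) = swap o s * swap o j) (hx' : (π x' : Perm α) = swap o s * swap o k)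
    (hy' : (π y' : Perm α) = swap o s * swap o l) : x * y * x * y = x' * y' * x' * y' := by
  have hz := Subgroup.mem_center_iff.1 (h.cen (sq_mem hs h1 h2 h3 h4 h5 hx hy))
  have key : ∀ {k l : α} {x' y' : H}, P x' → P y' → (π x' : Perm α) = swap o s * swap o k →
      (π y' : Perm α) = swap o s * swap o l → ∀ σ : Perm α, Perm.sign σ = 1 → σ o = o → σ s = s →
      σ i = k → σ j = l → x * y * x * y = x' * y' * x' * y' := by
    intro k l x' y' px' py' hx' hy' σ hσ a1 a2 a3 a4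
    obtain ⟨g, rfl⟩ := exists_lift h.surj hσ
    rw [← h.conj_eq (g := g) px px' hx (by rw [a1, a2, a3, hx']),
      ← h.conj_eq (g := g) py py' hy (by rw [a1, a2, a4, hy']), ← mul_inv_cancel_right (x * y * x * y) g,
      ← hz g]
    group
  have n1 : swap i k j ≠ k := fun e => h5.symm ((swap i k).injective (by rw [e, swap_apply_left]))
  have n2 : swap i k j ≠ o := by rw [swap_apply_def]; split_ifs <;> assumption
  have n3 : swap i k j ≠ s := by rw [swap_apply_def]; split_ifs <;> assumption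
  obtain ⟨σ, a1, a2, a3, a4⟩ : ∃ σ : Perm α, σ o = o ∧ σ s = s ∧ σ i = k ∧ σ j = l :=
    ⟨swap (swap i k j) l * swap i k, by
      simp [swap_apply_of_ne_of_ne h1.symm g1.symm, swap_apply_of_ne_of_ne n2.symm g3.symm,
        swap_apply_of_ne_of_ne h2.symm g2.symm, swap_apply_of_ne_of_ne n3.symm g4.symm,
        swap_apply_of_ne_of_ne n1.symm g5]⟩
  rcases Int.units_eq_one_or (Perm.sign σ) with e | e
  · exact key px' py' hx' hy' σ e a1 a2 a3 a4
  · rw [key py' px' hy' hx' (swap k l * σ) (by simp [e, g5])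
      (by simp [a1, swap_apply_of_ne_of_ne g1.symm g3.symm])
      (by simp [a2, swap_apply_of_ne_of_ne g2.symm g4.symm]) (by simp [a3]) (by simp [a4])]
    have := Subgroup.mem_center_iff.1 (h.cen (sq_mem hs g1 g2 g3 g4 g5 hx' hy')) y'
    rw [← mul_right_cancel_iff (a := y'), ← this]; simp only [mul_assoc]

theorem section_of {o s i j : α} (hs : s ≠ o) (h1 : i ≠ o) (h2 : i ≠ s) (h3 : j ≠ o) (h4 : j ≠ s)
    (h5 : i ≠ j) {x y : H} (px : P x) (py : P y) (hx : (π x : Perm α) = swap o s * swap o i)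
    (hy : (π y : Perm α) = swap o s * swap o j) {K : Type*} [Group K] (f : H →* K)
    (π' : K →* alternatingGroup α) (hf : ∀ g, π' (f g) = π g) (hz : f (x * y * x * y) = 1) :
    ∃ ψ : alternatingGroup α →* K, ∀ a, π' (ψ a) = a := by
  have : ∀ k, ∃ u, k ≠ o → k ≠ s → P u ∧ (π u : Perm α) = swap o s * swap o k := fun k => by
    by_cases e : k ≠ o ∧ k ≠ s
    · obtain ⟨u, hu⟩ := h.ex o s k hs.symm e.1.symm e.2.symm
      exact ⟨u, fun _ _ => hu⟩
    · exact ⟨1, fun a b => absurd ⟨a, b⟩ e⟩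
  choose u hu using this
  refine exists_section π' hs (fun k => f (u k)) (fun k a b => by rw [hf, (hu k a b).2])
    (fun k a b => by rw [← map_mul, ← map_mul, h.cube _ (hu k a b).1, map_one])
    (fun k l a b c d e => ?_)
  rw [← map_mul, ← map_mul, ← map_mul, ← h.z_eq hs h1 h2 h3 h4 h5 a b c d e px py (hu k a b).1
    (hu l c d).1 hx hy (hu k a b).2 (hu l c d).2, hz]

theorem ker_le (hc : π.ker ≤ commutator H) {o s i j : α} (hs : s ≠ o) (h1 : i ≠ o) (h2 : i ≠ s)
    (h3 : j ≠ o) (h4 : j ≠ s) (h5 : i ≠ j) {x y : H} (px : P x) (py : P y)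
    (hx : (π x : Perm α) = swap o s * swap o i) (hy : (π y : Perm α) = swap o s * swap o j) :
    π.ker ≤ zpowers (x * y * x * y) := by
  have hz := sq_mem hs h1 h2 h3 h4 h5 hx hy
  set N := zpowers (x * y * x * y)
  have hN : N ≤ π.ker := zpowers_le.2 hz
  haveI : N.Normal := ⟨fun n hn g => by
    rwa [Subgroup.mem_center_iff.1 (h.cen (hN hn)) g, mul_inv_cancel_right]⟩
  obtain ⟨ψ, hψ⟩ := h.section_of hs h1 h2 h3 h4 h5 px py hx hy (QuotientGroup.mk' N)
    (QuotientGroup.lift N π hN) (fun _ => rfl) ((QuotientGroup.eq_one_iff _).2 (mem_zpowers _))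
  have k : ∀ g : H, (g : H ⧸ N) * (ψ (π g))⁻¹ ∈ center (H ⧸ N) := by
    intro g
    obtain ⟨u, hu⟩ := QuotientGroup.mk_surjective (ψ (π g))
    have e := hψ (π g)
    rw [← hu] at e ⊢
    have e' : g * u⁻¹ ∈ π.ker := by
      rw [MonoidHom.mem_ker, map_mul, map_inv, mul_inv_eq_one]; exact e.symm
    rw [Subgroup.mem_center_iff]
    intro q
    obtain ⟨q, rfl⟩ := QuotientGroup.mk_surjective q
    exact congrArg QuotientGroup.mk (Subgroup.mem_center_iff.1 (h.cen e') q)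
  let ρ : H →* center (H ⧸ N) := MonoidHom.mk' (fun g => ⟨_, k g⟩) (fun a b => Subtype.ext (by
    show ((a * b : H) : H ⧸ N) * (ψ (π (a * b)))⁻¹ = _ * (ψ (π a))⁻¹ * (_ * (ψ (π b))⁻¹)
    rw [Subgroup.mem_center_iff.1 (k b), map_mul, map_mul, QuotientGroup.mk_mul, mul_inv_rev,
      ← mul_assoc, mul_assoc (a : H ⧸ N), Subgroup.mem_center_iff.1 (k b), mul_assoc]))
  intro g hg
  have hk : commutator H ≤ ρ.ker := by
    rw [_root_.commutator_def, commutator_le]
    intro a _ b _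
    rw [MonoidHom.mem_ker, map_commutatorElement, commutatorElement_eq_one_iff_mul_comm]
    exact Subtype.ext (Subgroup.mem_center_iff.1 (ρ b).2 (ρ a))
  have e := congrArg Subtype.val (MonoidHom.mem_ker.1 (hk (hc hg)))
  have e' : (g : H ⧸ N) * (ψ (π g))⁻¹ = 1 := e
  rw [MonoidHom.mem_ker.1 hg, map_one, inv_one, mul_one] at e'
  exact (QuotientGroup.eq_one_iff _).1 e'

end Lifts

theorem c3_cube {a b c : α} (h1 : a ≠ b) (h2 : a ≠ c) (h3 : b ≠ c) :
    (swap a b * swap a c) ^ 3 = 1 := by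
  rw [← (Perm.isThreeCycle_swap_mul_swap_same h1 h2 h3).orderOf, pow_orderOf_eq_one]

theorem lifts_two {π : H →* alternatingGroup α} (h1 : Function.Surjective π)
    (h2 : π.ker ≤ center H) (h3 : IsPGroup 2 π.ker) : Lifts π (fun x => x * x * x = 1) ∧
      ∀ w ∈ π.ker, w ^ 3 = 1 → w = 1 := by
  have k : ∀ w ∈ π.ker, w ^ 3 = 1 → w = 1 := fun w hw e => by
    obtain ⟨k, hk⟩ := h3 ⟨w, hw⟩
    have hk' : w ^ 2 ^ k = 1 := congrArg Subtype.val hk
    have := Nat.dvd_gcd (orderOf_dvd_of_pow_eq_one hk') (orderOf_dvd_of_pow_eq_one e)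
    rwa [(Nat.Coprime.pow_left k (by norm_num : Nat.Coprime 2 3)).gcd_eq_one, Nat.dvd_one,
      orderOf_eq_one_iff] at this
  refine ⟨⟨h1, h2, fun g x hx => ?_, fun _ h => h, fun x y hx hy e => ?_,
    fun a b c n1 n2 n3 => ?_⟩, k⟩
  · rw [show g * x * g⁻¹ * (g * x * g⁻¹) * (g * x * g⁻¹) = g * (x * x * x) * g⁻¹ by
      simp only [mul_assoc, inv_mul_cancel_left], hx]; simp
  · have hw : x * y⁻¹ ∈ π.ker := by rw [MonoidHom.mem_ker, map_mul, map_inv, e, mul_inv_cancel]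
    have hc : Commute (x * y⁻¹) y := (Subgroup.mem_center_iff.1 (h2 hw) y).symm
    have := hc.mul_pow 3
    rw [inv_mul_cancel_right, pow_three', hx, pow_three' y, hy, mul_one] at this
    exact mul_inv_eq_one.1 (k _ hw this.symm)
  · obtain ⟨x, hx⟩ := exists_lift h1 (σ := swap a b * swap a c) (by simp [n1, n2])
    obtain ⟨k, hk⟩ := h3 ⟨x ^ 3, Subtype.ext (by simp [hx, c3_cube n1 n2 n3])⟩
    have hk' : (x ^ 3) ^ 2 ^ k = 1 := congrArg Subtype.val hk
    refine ⟨x ^ 4 ^ k, ?_, ?_⟩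
    · rw [← pow_three', ← pow_mul, mul_comm, pow_mul, show 4 = 2 * 2 from rfl, mul_pow, pow_mul, hk',
        one_pow]
    · rw [map_pow, SubgroupClass.coe_pow, hx, pow_eq_pow_mod _ (c3_cube n1 n2 n3), Nat.pow_mod]
      simp

theorem cent_lift {π : H →* alternatingGroup α} (h1 : Function.Surjective π)
    (h2 : π.ker ≤ center H) (h8 : 8 ≤ Fintype.card α) {a b d : α} (n1 : a ≠ b) (n2 : a ≠ d)
    (n3 : b ≠ d) {x : H} (hx : (π x : Perm α) = swap a b * swap a d) (h3 : x * x * x = 1) {g : H}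
    (hg : π g * π x = π x * π g) : g * x = x * g := by
  have s1 : ∀ g : H, (π g : Perm α) a = a → (π g : Perm α) b = b → (π g : Perm α) d = d →
      (π g : Perm α) * π g = 1 → g * x = x * g := by
    intro g e1 e2 e3 e4
    have hw : g * x * g⁻¹ * x⁻¹ ∈ π.ker := Subtype.ext (by
      simp only [map_mul, map_inv, Subgroup.coe_mul, Subgroup.coe_inv, hx, conj_c3, e1, e2, e3]
      simp [mul_assoc])
    have hgg : g * g ∈ π.ker := Subtype.ext (by simpa using e4)
    obtain ⟨w, hw'⟩ : ∃ w, w = g * x * g⁻¹ * x⁻¹ := ⟨_, rfl⟩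
    rw [← hw'] at hw
    have c1 := Subgroup.mem_center_iff.1 (h2 hw)
    have c2 := Subgroup.mem_center_iff.1 (h2 hgg) x
    have c3 : g * x = w * x * g := by rw [hw']; group
    have c4 : w * w = 1 := by
      rw [mul_assoc g, c3, ← mul_assoc g, ← mul_assoc g, c1 g, mul_assoc w, c3] at c2
      simpa only [← mul_assoc, left_eq_mul, right_eq_mul, mul_left_inj] using c2
    have c5 : (w * x) ^ 3 = 1 := by
      rw [hw', inv_mul_cancel_right, conj_pow, pow_three', h3]; simp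
    rw [Commute.mul_pow (c1 x).symm, pow_three' x, h3, mul_one, pow_three', c4, one_mul] at c5
    rw [c3, c5, one_mul]
  let O : α → Prop := fun p => a ≠ p ∧ b ≠ p ∧ d ≠ p
  have s2 : ∀ p q r t, O p → O q → O r → O t → r ≠ p → r ≠ q → t ≠ p → t ≠ q → ∀ g : H,
      (π g : Perm α) = swap p q * swap r t → g * x = x * g := by
    intro p q r t hp hq hr ht m1 m2 m3 m4 g e
    refine s1 g ?_ ?_ ?_ ?_ <;> rw [e]
    · simp [swap_apply_of_ne_of_ne hp.1 hq.1, swap_apply_of_ne_of_ne hr.1 ht.1]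
    · simp [swap_apply_of_ne_of_ne hp.2.1 hq.2.1, swap_apply_of_ne_of_ne hr.2.1 ht.2.1]
    · simp [swap_apply_of_ne_of_ne hp.2.2 hq.2.2, swap_apply_of_ne_of_ne hr.2.2 ht.2.2]
    · nth_rw 1 [swap_comm_disj m1 m2 m3 m4]; simp [mul_assoc]
  have s3 : ∀ p q t, O p → O q → O t → p ≠ q → p ≠ t → ∀ g : H,
      (π g : Perm α) = swap p q * swap p t → g * x = x * g := by
    intro p q t hp hq ht m1 m2 g e
    obtain ⟨u, hu⟩ := pick [a, b, d, p, q, t] (by simp; omega)
    obtain ⟨v, hv⟩ := pick [a, b, d, p, q, t, u] (by simp; omega)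
    simp only [List.mem_cons, List.not_mem_nil, or_false, not_or] at hu hv
    obtain ⟨k, hk⟩ := exists_lift h1 (σ := swap p q * swap u v) (by simp [m1, Ne.symm hv.2.2.2.2.2.2])
    have ou : O u := ⟨Ne.symm hu.1, Ne.symm hu.2.1, Ne.symm hu.2.2.1⟩
    have ov : O v := ⟨Ne.symm hv.1, Ne.symm hv.2.1, Ne.symm hv.2.2.1⟩
    have e1 := s2 p q u v hp hq ou ov hu.2.2.2.1 hu.2.2.2.2.1 hv.2.2.2.1 hv.2.2.2.2.1 k hk
    have e2 := s2 u v p t ou ov hp ht (Ne.symm hu.2.2.2.1) (Ne.symm hv.2.2.2.1)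
      (Ne.symm hu.2.2.2.2.2) (Ne.symm hv.2.2.2.2.2.1) (k⁻¹ * g) (by
        simp [hk, e, mul_assoc])
    rw [← mul_inv_cancel_left k g, mul_assoc, e2, ← mul_assoc, e1, mul_assoc]
  have s4 : ∀ p q r t, O p → O q → O r → O t → p ≠ q → r ≠ t → ∀ g : H,
      (π g : Perm α) = swap p q * swap r t → g * x = x * g := by
    intro p q r t hp hq hr ht m1 m2 g e
    by_cases c1 : r = p
    · subst c1; exact s3 r q t hr hq ht m1 m2 g e
    by_cases c2 : r = q
    · subst c2; exact s3 r p t hr hp ht c1 m2 g (by rw [e, swap_comm])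
    by_cases c3 : t = p
    · subst c3; exact s3 t q r ht hq hr m1 m2.symm g (by rw [e, swap_comm r])
    by_cases c4 : t = q
    · subst c4; exact s3 t p r ht hp hr c3 m2.symm g (by rw [e, swap_comm r, swap_comm p])
    exact s2 p q r t hp hq hr ht c1 c2 c3 c4 g e
  have s5 : ∀ (n : ℕ) (τ : Perm α), τ.support.card = n → τ a = a → τ b = b → τ d = d →
      (∀ g : H, (π g : Perm α) = τ → g * x = x * g) ∧
      ∀ p q, O p → O q → p ≠ q → ∀ g : H, (π g : Perm α) = swap p q * τ → g * x = x * g := by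
    intro n
    induction n using Nat.strong_induction_on with
    | _ n ih =>
    intro τ hn e1 e2 e3
    by_cases h0 : τ = 1
    · subst h0
      refine ⟨fun g e => (Subgroup.mem_center_iff.1 (h2 (Subtype.ext e)) x).symm,
        fun p q _ _ hpq g e => ?_⟩
      have := Perm.mem_alternatingGroup.1 (π g).2
      simp [e, hpq] at this
    obtain ⟨r, hr⟩ : ∃ r, τ r ≠ r := by
      by_contra hne; push Not at hne; exact h0 (Equiv.ext hne)
    have or : O r := ⟨fun e => hr (e ▸ e1), fun e => hr (e ▸ e2), fun e => hr (e ▸ e3)⟩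
    have ot : O (τ r) := ⟨fun e => or.1 (τ.injective (e1.trans e)),
      fun e => or.2.1 (τ.injective (e2.trans e)), fun e => or.2.2 (τ.injective (e3.trans e))⟩
    obtain ⟨i1, i2⟩ := ih _ (hn ▸ Perm.card_support_swap_mul hr) (swap r (τ r) * τ) rfl
      (by simp [e1, swap_apply_of_ne_of_ne or.1 ot.1])
      (by simp [e2, swap_apply_of_ne_of_ne or.2.1 ot.2.1])
      (by simp [e3, swap_apply_of_ne_of_ne or.2.2 ot.2.2])
    refine ⟨fun g e => i2 r (τ r) or ot hr.symm g (by simp [e]), fun p q hp hq hpq g e => ?_⟩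
    obtain ⟨k, hk⟩ := exists_lift h1 (σ := swap p q * swap r (τ r)) (by simp [hpq, hr.symm])
    have e4 := s4 p q r (τ r) hp hq or ot hpq hr.symm k hk
    have e5 := i1 (k⁻¹ * g) (by simp [hk, e, mul_assoc])
    rw [← mul_inv_cancel_left k g, mul_assoc, e5, ← mul_assoc, e4, mul_assoc]
  have c1 : (π x : Perm α) a = d := by simp [hx, swap_apply_of_ne_of_ne n2.symm n3.symm]
  have c2 : (π x : Perm α) d = b := by simp [hx]
  have c3 : (π x : Perm α) b = a := by simp [hx, swap_apply_of_ne_of_ne n1.symm n3]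
  have s6 : ∀ g : H, π g * π x = π x * π g → (π g : Perm α) a = a → g * x = x * g := by
    intro g e e1
    have e' : ∀ v, (π g : Perm α) ((π x : Perm α) v) = (π x : Perm α) ((π g : Perm α) v) :=
      fun v => congrArg (fun σ : alternatingGroup α => (σ : Perm α) v) e
    have e2 : (π g : Perm α) d = d := by rw [← c1, e', e1]
    have e3 : (π g : Perm α) b = b := by rw [← c2, e', e2]
    exact (s5 _ _ rfl e1 e3 e2).1 g rfl
  have s7 : ∀ g : H, x * g * x = x * (x * g) → g * x = x * g := fun g e => by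
    rwa [mul_assoc, mul_left_cancel_iff] at e
  have s8 : ∀ g : H, π g * π x = π x * π g → π (x * g) * π x = π x * π (x * g) := fun g e => by
    rw [map_mul, mul_assoc, e]
  have e' : (π g : Perm α) ((π x : Perm α) a) = (π x : Perm α) ((π g : Perm α) a) :=
    congrArg (fun σ : alternatingGroup α => (σ : Perm α) a) hg
  by_cases d1 : (π g : Perm α) a = a
  · exact s6 g hg d1
  by_cases d2 : (π g : Perm α) a = b
  · exact s7 g (s6 _ (s8 g hg) (by simp [d2, c3]))
  by_cases d3 : (π g : Perm α) a = d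
  · exact s7 g (s7 _ (s6 _ (s8 _ (s8 g hg)) (by simp [d3, c2, c3])))
  rw [c1, hx, Perm.mul_apply, swap_apply_of_ne_of_ne d1 d3, swap_apply_of_ne_of_ne d1 d2] at e'
  exact absurd ((π g : Perm α).injective e') n2.symm

theorem lifts_eight {π : H →* alternatingGroup α} (h1 : Function.Surjective π)
    (h2 : π.ker ≤ center H) (h8 : 8 ≤ Fintype.card α) :
    ∃ P, Lifts π P ∧ ∀ x, P x → P x⁻¹ := by
  obtain ⟨a, -⟩ := pick (α := α) [] (by simp; omega)
  obtain ⟨b, hb⟩ := pick [a] (by simp; omega)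
  obtain ⟨d, hd⟩ := pick [a, b] (by simp; omega)
  obtain ⟨u, hu⟩ := pick [a, b, d] (by simp; omega)
  obtain ⟨v, hv⟩ := pick [a, b, d, u] (by simp; omega)
  simp only [List.mem_cons, List.not_mem_nil, or_false, not_or] at hb hd hu hv
  obtain ⟨c, hc⟩ := exists_lift h1 (σ := swap a b * swap a d) (by simp [Ne.symm hb, Ne.symm hd.1])
  obtain ⟨t, ht⟩ := exists_lift h1 (σ := swap b d * swap u v)
    (by simp [Ne.symm hd.2, Ne.symm hv.2.2.2])
  have hcube := c3_cube (Ne.symm hb) (Ne.symm hd.1) (Ne.symm hd.2)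
  have e1 : (π (t * c * t⁻¹) : Perm α) = (π c : Perm α)⁻¹ := by
    simp only [map_mul, map_inv, Subgroup.coe_mul, Subgroup.coe_inv, hc, conj_c3]
    simp [ht, swap_apply_of_ne_of_ne (Ne.symm hu.1) (Ne.symm hv.1),
      swap_apply_of_ne_of_ne (Ne.symm hu.2.1) (Ne.symm hv.2.1),
      swap_apply_of_ne_of_ne (Ne.symm hu.2.2) (Ne.symm hv.2.2.1),
      swap_apply_of_ne_of_ne (Ne.symm hb) (Ne.symm hd.1)]
  have e2 : t * t ∈ π.ker := Subtype.ext (by
    simp only [map_mul, Subgroup.coe_mul, ht]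
    nth_rw 1 [swap_comm_disj hu.2.1 hu.2.2 hv.2.1 hv.2.2.1]; simp [mul_assoc])
  obtain ⟨y, hy⟩ : ∃ y, y = c * (t * c * t⁻¹)⁻¹ := ⟨_, rfl⟩
  have e3 : t * y * t⁻¹ = y⁻¹ := by
    have := Subgroup.mem_center_iff.1 (h2 e2) c⁻¹
    calc t * y * t⁻¹ = t * c * t⁻¹ * (t * t * c⁻¹) * (t * t)⁻¹ := by rw [hy]; group
      _ = y⁻¹ := by rw [← this, hy]; group
  have e4 : (π y : Perm α) = (swap a b * swap a d) ^ 2 := by
    rw [hy, map_mul, map_inv, Subgroup.coe_mul, Subgroup.coe_inv, e1, inv_inv, hc, pow_two]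
  have e5 : y ^ 6 = 1 := by
    have h3 : y ^ 3 ∈ π.ker := Subtype.ext (by
      rw [map_pow, SubgroupClass.coe_pow, e4, ← pow_mul, mul_comm, pow_mul, hcube]; simp)
    have := Subgroup.mem_center_iff.1 (h2 h3) t
    rw [← mul_inv_eq_iff_eq_mul, ← conj_pow, e3, inv_pow, inv_eq_iff_mul_eq_one, ← pow_add] at this
    exact this
  have e6 : (π (y ^ 2) : Perm α) = swap a b * swap a d := by
    rw [map_pow, SubgroupClass.coe_pow, e4, ← pow_mul, show 2 * 2 = 3 + 1 from rfl, pow_succ, hcube,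
      one_mul]
  have e7 : y ^ 2 * y ^ 2 * y ^ 2 = 1 := by rw [← pow_add, ← pow_add, e5]
  have e8 : t * y ^ 2 * t⁻¹ = (y ^ 2)⁻¹ := by rw [← conj_pow, e3, inv_pow]
  generalize y ^ 2 = x at e6 e7 e8
  refine ⟨fun w => ∃ g, w = g * x * g⁻¹, ⟨h1, h2, ?_, ?_, ?_, fun p q r n1 n2 n3 => ?_⟩, ?_⟩
  · rintro g _ ⟨k, rfl⟩; exact ⟨g * k, by group⟩
  · rintro _ ⟨g, rfl⟩
    rw [show g * x * g⁻¹ * (g * x * g⁻¹) * (g * x * g⁻¹) = g * (x * x * x) * g⁻¹ by
      simp only [mul_assoc, inv_mul_cancel_left], e7]; simp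
  · rintro _ _ ⟨g, rfl⟩ ⟨k, rfl⟩ e
    have := cent_lift h1 h2 h8 (Ne.symm hb) (Ne.symm hd.1) (Ne.symm hd.2) e6 e7 (g := k⁻¹ * g) (by
      simp only [map_mul, map_inv] at e ⊢
      rw [mul_assoc, ← inv_mul_cancel_right (π g * π x) (π g), e]; group)
    rw [← mul_inv_cancel_left k g, mul_assoc k, this]; group
  · obtain ⟨σ, hσ⟩ := isConj_iff.1 (alternatingGroup.isThreeCycle_isConj (by simp; omega)
      (σ := π x) (τ := ⟨swap p q * swap p r, by simp [n1, n2]⟩)
      (e6 ▸ Perm.isThreeCycle_swap_mul_swap_same (Ne.symm hb) (Ne.symm hd.1) (Ne.symm hd.2))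
      (Perm.isThreeCycle_swap_mul_swap_same n1 n2 n3))
    obtain ⟨g, rfl⟩ := h1 σ
    exact ⟨_, ⟨g, rfl⟩, by rw [map_mul, map_mul, map_inv, hσ]⟩
  · rintro _ ⟨g, rfl⟩
    exact ⟨g * t, by rw [show g * t * x * (g * t)⁻¹ = g * (t * x * t⁻¹) * g⁻¹ by group, e8]; group⟩

theorem four_pts (h4 : 4 ≤ Fintype.card α) : ∃ o s i j : α, s ≠ o ∧ i ≠ o ∧ i ≠ s ∧ j ≠ o ∧
    j ≠ s ∧ i ≠ j := by
  obtain ⟨a, -⟩ := pick (α := α) [] (by simp; omega)
  obtain ⟨b, hb⟩ := pick [a] (by simp; omega)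
  obtain ⟨d, hd⟩ := pick [a, b] (by simp; omega)
  obtain ⟨u, hu⟩ := pick [a, b, d] (by simp; omega)
  simp only [List.mem_cons, List.not_mem_nil, or_false, not_or] at hb hd hu
  exact ⟨a, b, d, u, hb, hd.1, hd.2, hu.1, hu.2.1, Ne.symm hu.2.2⟩

theorem card_le_two_of {K : Subgroup H} {z : H} (h : K ≤ zpowers z) (hz : z ^ 2 = 1) :
    Nat.card K ≤ 2 := by
  have h1 : orderOf z ≤ 2 := orderOf_le_of_pow_eq_one two_pos hz
  have : Finite (zpowers z) := finite_zpowers.2 (isOfFinOrder_iff_pow_eq_one.2 ⟨2, two_pos, hz⟩)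
  exact (card_le_of_le h).trans (by rwa [Nat.card_zpowers])

theorem ker_card_two {π : H →* alternatingGroup α} (h1 : Function.Surjective π)
    (h2 : π.ker ≤ center H) (hc : π.ker ≤ commutator H) (h4 : 4 ≤ Fintype.card α)
    (h3 : IsPGroup 2 π.ker) : Nat.card π.ker ≤ 2 := by
  obtain ⟨hL, h5⟩ := lifts_two h1 h2 h3
  obtain ⟨o, s, i, j, n1, n2, n3, n4, n5, n6⟩ := four_pts h4
  obtain ⟨x, px, hx⟩ := hL.ex o s i n1.symm n2.symm n3.symm
  obtain ⟨y, py, hy⟩ := hL.ex o s j n1.symm n4.symm n5.symm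
  have hz := Lifts.sq_mem n1 n2 n3 n4 n5 n6 hx hy
  refine card_le_two_of (hL.ker_le hc n1 n2 n3 n4 n5 n6 px py hx hy) (h5 _ (pow_mem hz 2) ?_)
  rw [← pow_mul]; exact carm_six px py (h2 hz) rfl

theorem ker_card_eight {π : H →* alternatingGroup α} (h1 : Function.Surjective π)
    (h2 : π.ker ≤ center H) (hc : π.ker ≤ commutator H) (h8 : 8 ≤ Fintype.card α) :
    Nat.card π.ker ≤ 2 := by
  obtain ⟨P, hL, h5⟩ := lifts_eight h1 h2 h8
  obtain ⟨o, s, i, j, n1, n2, n3, n4, n5, n6⟩ := four_pts (α := α) (by omega)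
  obtain ⟨x, px, hx⟩ := hL.ex o s i n1.symm n2.symm n3.symm
  obtain ⟨y, py, hy⟩ := hL.ex o s j n1.symm n4.symm n5.symm
  have hz := Subgroup.mem_center_iff.1 (h2 (Lifts.sq_mem n1 n2 n3 n4 n5 n6 hx hy))
  refine card_le_two_of (hL.ker_le hc n1 n2 n3 n4 n5 n6 px py hx hy) ?_
  obtain ⟨u, hu⟩ := pick [o, s, i, j] (by simp; omega)
  obtain ⟨v, hv⟩ := pick [o, s, i, j, u] (by simp; omega)
  simp only [List.mem_cons, List.not_mem_nil, or_false, not_or] at hu hv
  obtain ⟨g, hg⟩ := exists_lift h1 (σ := swap o s * swap u v)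
    (by simp [n1.symm, Ne.symm hv.2.2.2.2])
  have k : ∀ i x, i ≠ o → i ≠ s → u ≠ i → v ≠ i → P x → (π x : Perm α) = swap o s * swap o i →
      g * x * g⁻¹ = x⁻¹ := by
    intro i x a1 a2 a3 a4 px hx
    refine hL.conj_eq px (h5 x px) hx ?_
    rw [map_inv, Subgroup.coe_inv, hx, hg]
    simp only [Perm.mul_apply, swap_apply_of_ne_of_ne (Ne.symm hu.1) (Ne.symm hv.1),
      swap_apply_of_ne_of_ne (Ne.symm hu.2.1) (Ne.symm hv.2.1),
      swap_apply_of_ne_of_ne a3.symm a4.symm, swap_apply_of_ne_of_ne a1 a2, swap_apply_left,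
      swap_apply_right, mul_inv_rev, swap_inv]
    rw [swap_comm s o, mul_swap_eq_swap_mul (swap o s), swap_apply_right,
      swap_apply_of_ne_of_ne a1 a2]
  have e1 := k i x n2 n3 hu.2.2.1 hv.2.2.1 px hx
  have e2 := k j y n4 n5 hu.2.2.2 hv.2.2.2.1 py hy
  have e3 : x * y * x * y = x⁻¹ * y⁻¹ * x⁻¹ * y⁻¹ := by
    rw [← e1, ← e2, ← mul_inv_cancel_right (x * y * x * y) g, ← hz g]; group
  have e4 : x * y * x * y = y * x * y * x := by
    rw [← mul_right_cancel_iff (a := y), ← hz y]; simp only [mul_assoc]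
  rw [pow_two]
  nth_rw 1 [e3]
  rw [e4]; group

theorem ker_two_group [Finite H] {π : H →* alternatingGroup α} (h1 : Function.Surjective π)
    (h2 : π.ker ≤ center H) (hc : π.ker ≤ commutator H)
    (h5 : ∀ p : ℕ, p.Prime → p ≠ 2 → ¬ p ^ 2 ∣ Nat.card (alternatingGroup α)) :
    IsPGroup 2 π.ker := by
  refine IsPGroup.of_card (Nat.eq_prime_pow_of_unique_prime_dvd Nat.card_pos.ne' ?_)
  intro p hp hd
  by_contra hp2
  have := Fact.mk hp
  obtain ⟨z, hz1, hz2⟩ := PLoc.exists_mem_orderOf_eq_prime hp hd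
  obtain ⟨P, hP⟩ := (PLoc.isPGroup_zpowers (p := p) (x := z) (k := 1)
    (by rw [pow_one, ← hz2, pow_orderOf_eq_one])).exists_le_sylow
  have h3 : IsCyclic ((P : Subgroup H).map π) := by
    obtain ⟨k, hk⟩ := (P.2.map π).exists_card_eq
    have h4 := card_subgroup_dvd_card ((P : Subgroup H).map π)
    rw [hk] at h4
    have h6 : k ≤ 1 := by
      by_contra h6
      exact h5 p hp hp2 ((pow_dvd_pow p (by omega)).trans h4)
    exact isCyclic_of_card_dvd_prime (p := p) (hk ▸ by simpa using pow_dvd_pow p h6)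
  have h4 : IsMulCommutative (P : Subgroup H) := by
    refine MonoidHom.isMulCommutative_of_isCyclic_of_ker_le_center (π.subgroupMap P) ?_
    intro x hx
    rw [Subgroup.mem_center_iff]
    intro y
    exact Subtype.ext (Subgroup.mem_center_iff.mp (h2 (congrArg Subtype.val hx)) y)
  have h6 : z ∈ (⊥ : Subgroup H) := by
    rw [← PLoc.inf_commutator_inf_center_eq_bot h4 P.card_coprime_index]
    exact ⟨⟨hP (mem_zpowers z), hc hz1⟩, h2 hz1⟩
  rw [mem_bot.mp h6, orderOf_one] at hz2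
  exact hp.ne_one hz2.symm

end Cfsg.Agent.Cov
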