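import Cfsg.Agent.Cov.An

/-! The double cover of the alternating groups, from the Clifford algebra. -/

set_option autoImplicit false

namespace Cfsg.Agent.Cov

open Subgroup Equiv

variable {α : Type} [Fintype α] [DecidableEq α]

theorem exists_pin (α : Type) [Fintype α] [DecidableEq α] : ∃ (K : Type) (_ : Group K) (m : K)
    (U : α → α → K), m ∈ center K ∧ m ≠ 1 ∧ m * m = 1 ∧ (∀ i j, i ≠ j → U i j * U i j = 1) ∧
    ∀ i j k l, i ≠ j → k ≠ l → U i j * U k l * U i j = m * U (swap i j k) (swap i j l) := by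
  let Q : QuadraticForm ℚ (α → ℚ) := QuadraticMap.weightedSumSquares ℚ (fun _ : α => (1 / 2 : ℚ))
  let v : α → α → α → ℚ := fun i j => Pi.single i 1 - Pi.single j 1
  have hp : ∀ x y : α → ℚ, QuadraticMap.polar Q x y = ∑ i, x i * y i := by
    intro x y
    simp only [QuadraticMap.polar, Q, QuadraticMap.weightedSumSquares_apply,
      ← Finset.sum_sub_distrib]
    exact Finset.sum_congr rfl fun i _ => by simp; ring
  have hv : ∀ i j (y : α → ℚ), QuadraticMap.polar Q (v i j) y = y i - y j := by
    intro i j y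
    simp [hp, v, sub_mul, Finset.sum_sub_distrib, Pi.single_apply]
  have hQ : ∀ i j, i ≠ j → Q (v i j) = 1 := by
    intro i j h
    have := hv i j (v i j)
    rw [QuadraticMap.polar_self] at this
    simp [v, h, h.symm] at this
    simp only [v]; linarith
  have hsq : ∀ i j, i ≠ j → CliffordAlgebra.ι Q (v i j) * CliffordAlgebra.ι Q (v i j) = 1 := by
    intro i j h
    rw [CliffordAlgebra.ι_sq_scalar, hQ i j h, map_one]
  let U : α → α → (CliffordAlgebra Q)ˣ := fun i j =>
    if h : i ≠ j then ⟨_, _, hsq i j h, hsq i j h⟩ else 1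
  have hU : ∀ i j, i ≠ j → (U i j : CliffordAlgebra Q) = CliffordAlgebra.ι Q (v i j) := by
    intro i j h; simp only [U, dif_pos h]
  refine ⟨(CliffordAlgebra Q)ˣ, inferInstance, -1, U, ?_, ?_, by simp, ?_, ?_⟩
  · rw [Subgroup.mem_center_iff]; simp
  · intro h
    have h1 : (-1 : CliffordAlgebra Q) = 1 := congrArg Units.val h
    have h2 : algebraMap ℚ (CliffordAlgebra Q) (-1) = algebraMap ℚ _ 1 := by simpa using h1
    have := (algebraMap ℚ (CliffordAlgebra Q)).injective h2
    norm_num at this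
  · intro i j h
    exact Units.ext (by rw [Units.val_mul, hU i j h, hsq i j h, Units.val_one])
  · intro i j k l h1 h2
    refine Units.ext ?_
    rw [Units.val_mul, Units.val_mul, Units.val_mul, hU i j h1, hU k l h2,
      hU _ _ ((swap i j).injective.ne h2), CliffordAlgebra.ι_mul_ι_mul_ι, hQ i j h1, hv,
      Units.val_neg, Units.val_one, neg_one_mul, ← map_neg]
    congr 1
    ext x
    have e : ∀ k, (Pi.single (swap i j k) 1 : α → ℚ) x = (Pi.single k 1 : α → ℚ) (swap i j x) := by
      intro k; simp only [Pi.single_apply, swap_apply_eq_iff]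
    simp only [Pi.sub_apply, Pi.smul_apply, Pi.neg_apply, v, e, one_smul, smul_eq_mul]
    by_cases c1 : x = i
    · subst c1; simp [h1]
    by_cases c2 : x = j
    · subst c2; simp [c1]
    simp [c1, c2, swap_apply_of_ne_of_ne c1 c2]

theorem exists_cover (h4 : 4 ≤ Fintype.card α) : ∃ (Γ : Type) (_ : Group Γ) (_ : Finite Γ)
    (π : Γ →* alternatingGroup α) (z : Γ), Function.Surjective π ∧ π.ker = zpowers z ∧
    z ∈ center Γ ∧ orderOf z = 2 ∧ z ∈ commutator Γ ∧ ∀ a b c d e f g h : α,
      [a, b, c, d, e, f, g, h].Nodup → ∃ x : Γ, x * x = 1 ∧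
        (π x : Perm α) = swap a b * swap c d * (swap e f * swap g h) := by
  obtain ⟨K, _, m, U, hm, hm1, hm2, hU, hUU⟩ := exists_pin α
  have hc := Subgroup.mem_center_iff.1 hm
  set N := zpowers m
  have hN : ∀ u ∈ N, u = 1 ∨ u = m := by
    rintro _ ⟨k, rfl⟩
    have : orderOf m = 2 := orderOf_eq_prime (by rw [pow_two, hm2]) hm1
    rcases Int.emod_two_eq_zero_or_one k with e | e
    · left; show m ^ k = 1
      rw [← zpow_mod_orderOf, this, Nat.cast_ofNat, e, zpow_zero]
    · right; show m ^ k = m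
      rw [← zpow_mod_orderOf, this, Nat.cast_ofNat, e, zpow_one]
  have : N.Normal := ⟨fun n hn g => by
    rwa [Subgroup.mem_center_iff.1 (zpowers_le.2 hm hn) g, mul_inv_cancel_right]⟩
  have hq : (m : K ⧸ N) = 1 := (QuotientGroup.eq_one_iff _).2 (mem_zpowers _)
  obtain ⟨φ, hφ⟩ := hom_of_swaps (α := α) (fun i j => (U i j : K ⧸ N))
    (fun i j h => by rw [← QuotientGroup.mk_mul, hU i j h, QuotientGroup.mk_one])
    (fun i j k l h1 h2 => by
      rw [← QuotientGroup.mk_mul, ← QuotientGroup.mk_mul, hUU i j k l h1 h2, QuotientGroup.mk_mul,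
        hq, one_mul])
  let Γ : Subgroup (alternatingGroup α × K) := MonoidHom.eqLocus
    (φ.comp ((alternatingGroup α).subtype.comp (MonoidHom.fst _ _)))
    ((QuotientGroup.mk' N).comp (MonoidHom.snd _ _))
  have hΓ : ∀ x : alternatingGroup α × K, x ∈ Γ ↔ φ x.1 = (x.2 : K ⧸ N) := fun x => Iff.rfl
  let π : Γ →* alternatingGroup α := (MonoidHom.fst _ _).comp Γ.subtype
  let z : Γ := ⟨(1, m), (hΓ _).2 (by simp [hq])⟩
  have hz2 : orderOf z = 2 := orderOf_eq_prime
    (Subtype.ext (Prod.ext (by simp [z]) (by simp [z, pow_two, hm2])))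
    (fun e => hm1 (congrArg (fun x : Γ => x.1.2) e))
  have hk : π.ker = zpowers z := by
    refine le_antisymm ?_ (zpowers_le.2 rfl)
    rintro ⟨⟨a, u⟩, hx⟩ (rfl : a = 1)
    have : u ∈ N := (QuotientGroup.eq_one_iff _).1 (((hΓ _).1 hx).symm.trans (map_one φ))
    rcases hN u this with rfl | rfl
    · exact one_mem _
    · exact mem_zpowers z
  have hfin : Finite Γ := π.finite_iff_finite_ker_range.2 ⟨by
    rw [hk]; exact finite_zpowers.2 (orderOf_pos_iff.1 (by omega)), inferInstance⟩
  let L : ∀ a b c d : α, a ≠ b → c ≠ d → Γ := fun a b c d h1 h2 =>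
    ⟨(⟨swap a b * swap c d, by simp [h1, h2]⟩, U a b * U c d), (hΓ _).2 (by
      simp [hφ a b h1, hφ c d h2])⟩
  have hac : ∀ a b c d : α, a ≠ b → c ≠ d → c ≠ a → c ≠ b → d ≠ a → d ≠ b →
      U c d * U a b = m * (U a b * U c d) := by
    intro a b c d h1 h2 h3 h4 h5 h6
    have := hUU a b c d h1 h2
    rw [swap_apply_of_ne_of_ne h3 h4, swap_apply_of_ne_of_ne h5 h6] at this
    rw [← mul_assoc, ← hc, mul_assoc, ← this, ← mul_assoc, ← mul_assoc, hU a b h1, one_mul]
  refine ⟨Γ, inferInstance, hfin, π, z, fun a => ?_, hk, ?_, hz2, ?_, ?_⟩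
  · obtain ⟨u, hu⟩ := QuotientGroup.mk_surjective (φ a)
    exact ⟨⟨(a, u), (hΓ _).2 hu.symm⟩, rfl⟩
  · rw [Subgroup.mem_center_iff]
    exact fun g => Subtype.ext (Prod.ext (by simp [z]) (hc _))
  · obtain ⟨a, b, c, d, n1, n2, n3, n4, n5, n6⟩ := four_pts h4
    have e : L a b c d n1.symm n6 * L a c b d n2.symm n5.symm =
        z * (L a c b d n2.symm n5.symm * L a b c d n1.symm n6) := by
      refine Subtype.ext (Prod.ext (Subtype.ext ?_) ?_)
      · show swap a b * swap c d * (swap a c * swap b d) =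
          1 * (swap a c * swap b d * (swap a b * swap c d))
        rw [one_mul, ← mul_assoc, mul_swap_eq_swap_mul _ a c, mul_assoc, mul_swap_eq_swap_mul _ b d,
          ← mul_assoc (swap _ _)]
        simp only [Perm.mul_apply, swap_apply_left, swap_apply_right,
          swap_apply_of_ne_of_ne n2.symm n4.symm, swap_apply_of_ne_of_ne n3.symm n5.symm,
          swap_apply_of_ne_of_ne n2 n3, swap_apply_of_ne_of_ne n4 n5]
        rw [swap_comm_disj n1.symm n4.symm n3 n6]
      · show U a b * U c d * (U a c * U b d) = m * (U a c * U b d * (U a b * U c d))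
        have k : ∀ i j k l, i ≠ j → k ≠ l → ∀ w,
            U i j * (U k l * w) = m * (U (swap i j k) (swap i j l) * (U i j * w)) := by
          intro i j k l h1 h2 w
          rw [← mul_assoc m, ← hUU i j k l h1 h2, mul_assoc, mul_assoc, ← mul_assoc (U i j) (U i j),
            hU i j h1, one_mul]
        have km : ∀ w w', w * (m * w') = m * (w * w') := fun w w' => by
          rw [← mul_assoc, hc, mul_assoc]
        have mm : ∀ w, m * (m * w) = w := fun w => by rw [← mul_assoc, hm2, one_mul]
        rw [← mul_one (U b d), mul_assoc, k c d a c n6 n2.symm, k c d b d n6 n5.symm]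
        simp only [swap_apply_left, swap_apply_right,
          swap_apply_of_ne_of_ne n2.symm n4.symm, swap_apply_of_ne_of_ne n3.symm n5.symm]
        rw [km (U a d), mm, k a b a d n1.symm n4.symm, k a b b c n1.symm n3.symm]
        simp only [swap_apply_left, swap_apply_right, swap_apply_of_ne_of_ne n2 n3,
          swap_apply_of_ne_of_ne n4 n5]
        rw [km (U b d), mm, ← mul_assoc (U b d), hac a c b d n2.symm n5.symm n1 n3.symm n4 n6.symm]
        simp only [mul_assoc, mul_one]
    rw [← mul_inv_eq_iff_eq_mul, mul_inv_rev, ← mul_assoc, ← commutatorElement_def] at e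
    rw [← e]
    exact commutator_mem_commutator (mem_top _) (mem_top _)
  · intro a b c d e f g h hn
    simp only [List.nodup_cons, List.mem_cons, List.not_mem_nil, or_false, not_or,
      not_false_eq_true, List.nodup_nil, and_true] at hn
    obtain ⟨⟨ab, ac, ad, ae, af, ag, ah⟩, ⟨bc, bd, be, bf, bg, bh⟩, ⟨cd, ce, cf, cg, ch⟩,
      ⟨de, df, dg, dh⟩, ⟨ef, eg, eh⟩, ⟨fg, fh⟩, gh⟩ := hn
    refine ⟨L a b c d ab cd * L e f g h ef gh, Subtype.ext (Prod.ext (Subtype.ext ?_) ?_), rfl⟩
    · show swap a b * swap c d * (swap e f * swap g h) * (swap a b * swap c d * (swap e f * swap g h))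
        = 1
      have c1 : Commute (swap a b) (swap c d) := swap_comm_disj (Ne.symm ac) (Ne.symm bc) (Ne.symm ad) (Ne.symm bd)
      have c2 : Commute (swap a b) (swap e f) := swap_comm_disj (Ne.symm ae) (Ne.symm be) (Ne.symm af) (Ne.symm bf)
      have c3 : Commute (swap a b) (swap g h) := swap_comm_disj (Ne.symm ag) (Ne.symm bg) (Ne.symm ah) (Ne.symm bh)
      have c4 : Commute (swap c d) (swap e f) := swap_comm_disj (Ne.symm ce) (Ne.symm de) (Ne.symm cf) (Ne.symm df)
      have c5 : Commute (swap c d) (swap g h) := swap_comm_disj (Ne.symm cg) (Ne.symm dg) (Ne.symm ch) (Ne.symm dh)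
      have c6 : Commute (swap e f) (swap g h) := swap_comm_disj (Ne.symm eg) (Ne.symm fg) (Ne.symm eh) (Ne.symm fh)
      rw [← pow_two, Commute.mul_pow ((c2.mul_right c3).mul_left (c4.mul_right c5)), c1.mul_pow,
        c6.mul_pow]
      simp [pow_two]
    · show U a b * U c d * (U e f * U g h) * (U a b * U c d * (U e f * U g h)) = 1
      have k : ∀ a b c d : α, a ≠ b → c ≠ d → a ≠ c → b ≠ c → a ≠ d → b ≠ d → ∀ w,
          U c d * (U a b * w) = m * (U a b * (U c d * w)) := fun a b c d h1 h2 h3 h4 h5 h6 w => by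
        rw [← mul_assoc, hac a b c d h1 h2 h3.symm h4.symm h5.symm h6.symm]
        simp only [mul_assoc]
      have km : ∀ i j w', U i j * (m * w') = m * (U i j * w') := fun i j w' => by
        rw [← mul_assoc, hc, mul_assoc]
      have mm : ∀ w, m * (m * w) = w := fun w => by rw [← mul_assoc, hm2, one_mul]
      have uu : ∀ i j, i ≠ j → ∀ w, U i j * (U i j * w) = w := fun i j h w => by
        rw [← mul_assoc, hU i j h, one_mul]
      simp only [mul_assoc, k a b c d ab cd ac bc ad bd, k a b e f ab ef ae be af bf,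
        k a b g h ab gh ag bg ah bh, k c d e f cd ef ce de cf df, k c d g h cd gh cg dg ch dh,
        k e f g h ef gh eg fg eh fh, km, mm, uu a b ab, uu c d cd, uu e f ef, hU g h gh]

end Cfsg.Agent.Cov
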