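import Cfsg.Agent.Class.Lin
import Cfsg.Agent.PLoc.Basic

/-! The centraliser of a transvection of `SL(5, 2)`. -/

set_option autoImplicit false

namespace Cfsg.Agent.Cov

open Subgroup Matrix

theorem sylow_of_center {G : Type*} [Group G] [Finite G] {z : G} (hz : orderOf z = 2)
    (T : Sylow 2 (centralizer ({z} : Set G)))
    (h : ∀ x ∈ T, ∀ y ∈ T, x ≠ 1 → y ≠ 1 → (∀ t ∈ T, t * x = x * t) → (∀ t ∈ T, t * y = y * t) →
      x = y) :
    ¬ 2 ∣ ((T : Subgroup (centralizer ({z} : Set G))).map (centralizer {z}).subtype).index := by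
  let C := centralizer ({z} : Set G)
  have hzC : z ∈ C := mem_centralizer_singleton_iff.2 rfl
  have hzc : ∀ t : C, t * ⟨z, hzC⟩ = ⟨z, hzC⟩ * t := fun t =>
    Subtype.ext (mem_centralizer_singleton_iff.1 t.2)
  have hz1 : z ≠ 1 := fun e => by simp [e] at hz
  have hzT : (⟨z, hzC⟩ : C) ∈ T := by
    have : (zpowers (⟨z, hzC⟩ : C)).Normal := ⟨fun n hn g => by
      rwa [mem_center_iff.1 (zpowers_le.2 (mem_center_iff.2 hzc) hn) g, mul_inv_cancel_right]⟩
    refine IsPGroup.le_sylow_of_normal (N := zpowers (⟨z, hzC⟩ : C)) (IsPGroup.of_card (n := 1) ?_) T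
      (mem_zpowers _)
    rw [Nat.card_zpowers, ← orderOf_coe, pow_one]; exact hz
  obtain ⟨S, hS⟩ := (T.2.map C.subtype).exists_le_sylow
  rcases hS.eq_or_lt with e | e
  · exact e ▸ S.not_dvd_index
  exfalso
  obtain ⟨g, g1, g2, g3⟩ := PLoc.exists_mem_normalizer_not_mem S.2 e
  obtain ⟨w, w1, w2⟩ := (mem_normalizer_iff.1 g2 z).1 ⟨_, hzT, rfl⟩
  have w2' : (w : G) = g * z * g⁻¹ := w2
  have := h w w1 _ hzT (fun e => hz1 (by rw [e] at w2'; simpa using w2'.symm))
    (fun e => hz1 (congrArg Subtype.val e)) (fun t ht => Subtype.ext (by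
      obtain ⟨u, -, u2⟩ := (mem_normalizer_iff''.1 g2 t).1 ⟨_, ht, rfl⟩
      have u3 : (u : G) * z = z * u := mem_centralizer_singleton_iff.1 u.2
      have u4 : (u : G) = g⁻¹ * t * g := u2
      rw [coe_mul, coe_mul, w2', ← mul_inv_cancel_left g (t : G), ← mul_inv_cancel_right (g⁻¹ * t) g,
        ← u4]
      calc g * (u * g⁻¹) * (g * z * g⁻¹) = g * (u * z) * g⁻¹ := by group
        _ = _ := by rw [u3]; group)) (fun t _ => hzc t)
  have gC : g ∈ C := mem_centralizer_singleton_iff.2 (by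
    rw [this] at w2'; exact (eq_mul_inv_iff_mul_eq.1 w2').symm)
  have := T.3 (S.2.comap_subtype (K := C)) (map_le_iff_le_comap.1 hS)
  exact g3 ⟨⟨g, gC⟩, this ▸ g1, rfl⟩

abbrev L52 := SpecialLinearGroup (Fin 5) (ZMod 2)

theorem mem_cent_iff {s : L52} (hs : (s : Matrix (Fin 5) (Fin 5) (ZMod 2)) = transvection 0 1 1)
    (g : L52) : g ∈ centralizer ({s} : Set L52) ↔
      (∀ i, i ≠ 0 → g.1 i 0 = 0) ∧ (∀ j, j ≠ 1 → g.1 1 j = 0) ∧ g.1 0 0 = g.1 1 1 := by
  have e : g * s = s * g ↔ g.1 * s.1 = s.1 * g.1 := Subtype.ext_iff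
  rw [mem_centralizer_singleton_iff, e, hs, transvection, mul_add, add_mul, mul_one, one_mul,
    add_right_inj]
  constructor
  · intro h
    refine ⟨fun i hi => ?_, fun j hj => ?_, ?_⟩
    · simpa [hi] using congrFun (congrFun h i) 1
    · simpa [hj] using (congrFun (congrFun h 0) j).symm
    · simpa using congrFun (congrFun h 0) 1
  · rintro ⟨h1, h2, h3⟩
    ext i j
    by_cases hi : i = 0 <;> by_cases hj : j = 1 <;> simp [hi, hj, h1, h2, h3]

theorem cent_diag {g : L52} (h1 : ∀ i, i ≠ 0 → g.1 i 0 = 0) : g.1 0 0 = 1 := by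
  have := g.2
  rw [det_succ_column_zero, Finset.sum_eq_single 0 (fun i _ hi => by simp [h1 i hi]) (by simp)]
    at this
  have k : ∀ a b : ZMod 2, (-1) ^ ((0 : Fin 5) : ℕ) * a * b = 1 → a = 1 := by decide
  exact k _ _ this

def blk (a : ZMod 2) (r c : Fin 3 → ZMod 2) (M : Matrix (Fin 3) (Fin 3) (ZMod 2)) :
    Matrix (Fin 5) (Fin 5) (ZMod 2) :=
  !![1, a, r 0, r 1, r 2; 0, 1, 0, 0, 0; 0, c 0, M 0 0, M 0 1, M 0 2;
    0, c 1, M 1 0, M 1 1, M 1 2; 0, c 2, M 2 0, M 2 1, M 2 2]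

theorem det_blk (a : ZMod 2) (r c : Fin 3 → ZMod 2) (M : Matrix (Fin 3) (Fin 3) (ZMod 2)) :
    (blk a r c M).det = M.det := by
  rw [det_succ_column_zero]
  simp only [Fin.sum_univ_succ, blk]
  simp [det_succ_row_zero, Fin.sum_univ_succ, det_fin_three, Fin.succAbove]

theorem card_cent {s : L52} (hs : (s : Matrix (Fin 5) (Fin 5) (ZMod 2)) = transvection 0 1 1) :
    Nat.card (centralizer ({s} : Set L52)) = 21504 := by
  let f : ZMod 2 × (Fin 3 → ZMod 2) × (Fin 3 → ZMod 2) × SpecialLinearGroup (Fin 3) (ZMod 2) →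
      centralizer ({s} : Set L52) := fun x =>
    ⟨⟨blk x.1 x.2.1 x.2.2.1 x.2.2.2, (det_blk _ _ _ _).trans x.2.2.2.2⟩, (mem_cent_iff hs _).2
      ⟨fun i hi => by fin_cases i <;> simp_all [blk], fun i hi => by fin_cases i <;> simp_all [blk],
        rfl⟩⟩
  have hf : Function.Bijective f := by
    constructor
    · rintro ⟨a, r, c, M⟩ ⟨a', r', c', M'⟩ e
      have e' : ∀ i j, blk a r c M i j = blk a' r' c' M' i j := fun i j =>
        congrArg (fun g : centralizer ({s} : Set L52) => g.1.1 i j) e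
      refine Prod.ext (e' 0 1) (Prod.ext (funext fun i => ?_) (Prod.ext (funext fun i => ?_)
        (Subtype.ext (Matrix.ext fun i j => ?_))))
      · have := e' 0 i.succ.succ; fin_cases i <;> exact this
      · have := e' i.succ.succ 1; fin_cases i <;> exact this
      · have := e' i.succ.succ j.succ.succ; fin_cases i <;> fin_cases j <;> exact this
    · rintro ⟨g, hg⟩
      obtain ⟨h1, h2, h3⟩ := (mem_cent_iff hs g).1 hg
      have h4 := cent_diag h1
      obtain ⟨a, r, c, M, e⟩ : ∃ a r c M, blk a r c M = g.1 := by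
        refine ⟨g.1 0 1, fun i => g.1 0 i.succ.succ, fun i => g.1 i.succ.succ 1,
          of fun i j => g.1 i.succ.succ j.succ.succ, ?_⟩
        ext i j
        fin_cases i <;> fin_cases j <;> simp [blk, h1, h2, h4, ← h3] <;> rfl
      have e2 : M.det = 1 := by rw [← det_blk a r c, e, g.2]
      exact ⟨⟨a, r, c, ⟨M, e2⟩⟩, Subtype.ext (Subtype.ext e)⟩
  rw [← Nat.card_eq_of_bijective f hf]
  have := Class.card_SL (F := ZMod 2) 3 (by norm_num)
  simp only [ZMod.card, Fin.prod_univ_three] at this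
  simp only [Nat.card_prod, Nat.card_fun, Nat.card_zmod, Nat.card_eq_fintype_card (α := Fin 3),
    Fintype.card_fin]
  have e : Nat.card (SpecialLinearGroup (Fin 3) (ZMod 2)) = 168 := by
    rw [show 2 - 1 = 1 from rfl, one_mul] at this; exact this
  rw [e]; norm_num

theorem cent_center {s : L52} (hs : (s : Matrix (Fin 5) (Fin 5) (ZMod 2)) = transvection 0 1 1)
    (T : Sylow 2 (centralizer ({s} : Set L52))) (x : centralizer ({s} : Set L52)) (hx : x ≠ 1)
    (h : ∀ t ∈ T, t * x = x * t) : (x : L52) = s := by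
  let C := centralizer ({s} : Set L52)
  have hC := fun g : C => (mem_cent_iff hs g).1 g.2
  have sq : ∀ g : C, (g.1.1 - 1) * (g.1.1 - 1) = 0 → g ^ 2 ^ 1 = 1 := fun g e => by
    refine Subtype.ext (Subtype.ext ?_)
    have e2 : (2 : Matrix (Fin 5) (Fin 5) (ZMod 2)) = 0 := by decide
    show g.1.1 ^ 2 = 1
    calc g.1.1 ^ 2 = (g.1.1 - 1) * (g.1.1 - 1) + 2 * (g.1.1 - 1) + 1 := by noncomm_ring
      _ = 1 := by rw [e, e2]; simp
  have mm : ∀ g k : C, (g * k).1.1 - 1 = (g.1.1 - 1) * k.1.1 + (k.1.1 - 1) := fun g k => by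
    show g.1.1 * k.1.1 - 1 = _; noncomm_ring
  have mm' : ∀ g k : C, (g * k).1.1 - 1 = g.1.1 * (k.1.1 - 1) + (g.1.1 - 1) := fun g k => by
    show g.1.1 * k.1.1 - 1 = _; noncomm_ring
  have cj : ∀ g k : C, (k * g * k⁻¹).1.1 - 1 = k.1.1 * ((g.1.1 - 1) * (k⁻¹).1.1) := fun g k => by
    have : k.1.1 * (k⁻¹).1.1 = 1 := by
      rw [← Matrix.SpecialLinearGroup.coe_mul k.1 (k⁻¹).1, ← Subgroup.coe_mul, mul_inv_cancel]; rfl
    show k.1.1 * g.1.1 * (k⁻¹).1.1 - 1 = _
    rw [sub_mul, one_mul, mul_sub, this, Matrix.mul_assoc]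
  have fin : ∀ {S : Set C}, 1 ∈ S → (∀ a ∈ S, ∀ b ∈ S, a * b ∈ S) → ∀ a ∈ S, a⁻¹ ∈ S := by
    intro S h1 h2 a ha
    have : ∀ n : ℕ, a ^ n ∈ S := fun n => by
      induction n with
      | zero => simpa
      | succ n ih => rw [pow_succ]; exact h2 _ ih _ ha
    have e := this (orderOf a - 1)
    rwa [eq_inv_of_mul_eq_one_left (a := a ^ (orderOf a - 1)) (b := a) (by
      rw [← pow_succ, Nat.sub_add_cancel (orderOf_pos a), pow_orderOf_eq_one])] at e
  have a1 : ∀ a ∈ {g : C | ∀ i, i ≠ 0 → ∀ j, (g.1.1 - 1) i j = 0},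
      ∀ b ∈ {g : C | ∀ i, i ≠ 0 → ∀ j, (g.1.1 - 1) i j = 0},
      a * b ∈ {g : C | ∀ i, i ≠ 0 → ∀ j, (g.1.1 - 1) i j = 0} := fun a ha b hb i hi j => by
    rw [mm, Matrix.add_apply, mul_apply, hb i hi]; simp [ha i hi]
  have b1 : ∀ a ∈ {g : C | ∀ j, j ≠ 1 → ∀ i, (g.1.1 - 1) i j = 0},
      ∀ b ∈ {g : C | ∀ j, j ≠ 1 → ∀ i, (g.1.1 - 1) i j = 0},
      a * b ∈ {g : C | ∀ j, j ≠ 1 → ∀ i, (g.1.1 - 1) i j = 0} := fun a ha b hb j hj i => by
    rw [mm', Matrix.add_apply, mul_apply, ha j hj]; simp [hb j hj]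
  let A : Subgroup C := ⟨⟨⟨_, fun ha hb => a1 _ ha _ hb⟩, fun i _ j => by simp⟩,
    fun ha => fin (fun i _ j => by simp) a1 _ ha⟩
  let B : Subgroup C := ⟨⟨⟨_, fun ha hb => b1 _ ha _ hb⟩, fun i _ j => by simp⟩,
    fun ha => fin (fun i _ j => by simp) b1 _ ha⟩
  have : A.Normal := ⟨fun g hg k i hi j => by
    rw [cj, mul_apply, Finset.sum_eq_zero]
    intro l _
    by_cases hl : l = 0
    · rw [hl, (hC k).1 i hi, zero_mul]
    · rw [mul_apply]; simp [hg l hl]⟩
  have : B.Normal := ⟨fun g hg k j hj i => by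
    rw [cj, ← Matrix.mul_assoc, mul_apply, Finset.sum_eq_zero]
    intro l _
    by_cases hl : l = 1
    · rw [hl, (hC k⁻¹).2.1 j hj, mul_zero]
    · rw [mul_apply]; simp [hg l hl]⟩
  have hA : A ≤ T := IsPGroup.le_sylow_of_normal (N := A) (fun g => ⟨1, Subtype.ext (sq g (by
    ext i j
    rw [mul_apply, Finset.sum_eq_zero, Matrix.zero_apply]
    intro l _
    by_cases hl : l = 0
    · by_cases hi : i = 0
      · simp [hl, hi, cent_diag (hC g).1]
      · rw [g.2 i hi, zero_mul]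
    · rw [g.2 l hl, mul_zero]))⟩) T
  have hB : B ≤ T := IsPGroup.le_sylow_of_normal (N := B) (fun g => ⟨1, Subtype.ext (sq g (by
    ext i j
    rw [mul_apply, Finset.sum_eq_zero, Matrix.zero_apply]
    intro l _
    by_cases hl : l = 1
    · by_cases hj : j = 1
      · simp [hl, hj, ← (hC g).2.2, cent_diag (hC g).1]
      · rw [g.2 j hj, mul_zero]
    · rw [g.2 l hl, zero_mul]))⟩) T
  obtain ⟨h1, h2, h3⟩ := hC x
  have h4 := cent_diag h1
  have k1 : ∀ j, j ≠ 0 → single 0 j 1 * x.1.1 = x.1.1 * single 0 j 1 := fun j hj => by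
    have : transvection 0 j 1 * x.1.1 = x.1.1 * transvection 0 j 1 := congrArg (fun g : C => g.1.1) (h ⟨⟨transvection 0 j 1, det_transvection_of_ne _ _ hj.symm _⟩,
      (mem_cent_iff hs _).2 (by revert j; decide)⟩ (hA fun a ha b => by
        show (transvection 0 j (1 : ZMod 2) - 1) a b = 0
        simp [transvection, ha.symm]))
    simpa [transvection, add_mul, mul_add] using this
  have k2 : ∀ i, i ≠ 1 → single i 1 1 * x.1.1 = x.1.1 * single i 1 1 := fun i hi => by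
    have : transvection i 1 1 * x.1.1 = x.1.1 * transvection i 1 1 := congrArg (fun g : C => g.1.1) (h ⟨⟨transvection i 1 1, det_transvection_of_ne _ _ hi _⟩,
      (mem_cent_iff hs _).2 (by revert i; decide)⟩ (hB fun a ha b => by
        show (transvection i 1 (1 : ZMod 2) - 1) b a = 0
        simp [transvection, ha.symm]))
    simpa [transvection, add_mul, mul_add] using this
  have k3 : ∀ i j, i ≠ 0 → x.1.1 i j = if i = j then 1 else 0 := fun i j hi => by
    have := congrFun (congrFun (k1 i hi) 0) j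
    by_cases e : i = j
    · subst e; simpa [h4] using this
    · simpa [e, Ne.symm e] using this
  have k4 : ∀ j, j ≠ 1 → j ≠ 0 → x.1.1 0 j = 0 := fun j hj h0 => by
    simpa [h0.symm] using (congrFun (congrFun (k2 j hj) 0) 1).symm
  have k5 : x.1.1 0 1 = 1 := by
    by_contra e
    have e' : x.1.1 0 1 = 0 := by revert e; generalize x.1.1 0 1 = a; revert a; decide
    refine hx (Subtype.ext (Subtype.ext ?_))
    ext i j
    fin_cases i <;> fin_cases j <;> simp [k3, k4, e', h4]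
  refine Subtype.ext (hs ▸ ?_)
  ext i j
  fin_cases i <;> fin_cases j <;> simp [k3, k4, k5, h4, transvection]

end Cfsg.Agent.Cov
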