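import Mathlib

/-! Presentations of symmetric and alternating groups. -/

set_option autoImplicit false

namespace Cfsg.Agent.Cov

open Subgroup Equiv

variable {α : Type*} [Fintype α] [DecidableEq α] {H : Type*} [Group H]

theorem hom_of_swaps (T : α → α → H) (h1 : ∀ i j, i ≠ j → T i j * T i j = 1)
    (h2 : ∀ i j k l, i ≠ j → k ≠ l → T i j * T k l * T i j = T (swap i j k) (swap i j l)) :
    ∃ φ : Perm α →* H, ∀ i j, i ≠ j → φ (swap i j) = T i j := by
  let K : Finset α → Subgroup (Perm α × H) := fun A =>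
    closure {p | ∃ i ∈ A, ∃ j ∈ A, i ≠ j ∧ p = (swap i j, T i j)}
  have hsym : ∀ i j, i ≠ j → T j i = T i j := fun i j h => by
    have := h2 i j i j h h
    rw [h1 i j h, one_mul, swap_apply_left, swap_apply_right] at this; exact this.symm
  have hgen : ∀ (A : Finset α) i j, i ∈ A → j ∈ A → i ≠ j → (swap i j, T i j) ∈ K A :=
    fun A i j hi hj h => subset_closure ⟨i, hi, j, hj, h, rfl⟩
  have hfix : ∀ (A : Finset α) a, a ∉ A → ∀ p ∈ K A, p.1 a = a := by
    intro A a ha p hp
    have : K A ≤ (MulAction.stabilizer (Perm α) a).comap (MonoidHom.fst _ _) := by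
      refine (closure_le _).2 ?_
      rintro _ ⟨i, hi, j, hj, -, rfl⟩
      exact swap_apply_of_ne_of_ne (fun e => ha (e ▸ hi)) (fun e => ha (e ▸ hj))
    exact this hp
  have hinv : ∀ i j, i ≠ j → ((swap i j, T i j) : Perm α × H)⁻¹ = (swap i j, T i j) :=
    fun i j h => inv_eq_of_mul_eq_one_right (Prod.ext (swap_mul_self i j) (h1 i j h))
  have hmv : ∀ i j k l, i ≠ j → k ≠ l → ((swap i j, T i j) : Perm α × H) * (swap k l, T k l) =
      (swap (swap i j k) (swap i j l), T (swap i j k) (swap i j l)) * (swap i j, T i j) := by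
    intro i j k l h h'
    refine Prod.ext ?_ ?_
    · exact mul_swap_eq_swap_mul _ _ _
    · show T i j * T k l = _ * T i j
      rw [← h2 i j k l h h', mul_assoc, h1 i j h, mul_one]
  have key : ∀ (A : Finset α) h, (1, h) ∈ K A → h = 1 := by
    intro A
    induction A using Finset.induction_on with
    | empty =>
      intro h hh
      have : K ∅ = ⊥ := by simp [K]
      rw [this, mem_bot] at hh; exact congrArg Prod.snd hh
    | insert a A ha ih =>
      have nf : ∀ p ∈ K (insert a A), p ∈ K A ∨ ∃ b ∈ A, ∃ q ∈ K A, p = (swap a b, T a b) * q := by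
        have step : ∀ b ∈ A, ∀ p, (p ∈ K A ∨ ∃ b ∈ A, ∃ q ∈ K A, p = (swap a b, T a b) * q) →
            ∃ c ∈ A, ∃ q ∈ K A, (swap a b, T a b) * p = (swap a c, T a c) * q ∨
              (swap a b, T a b) * p ∈ K A := by
          rintro b hb p (hp | ⟨c, hc, q, hq, rfl⟩)
          · exact ⟨b, hb, p, hp, Or.inl rfl⟩
          have hab : a ≠ b := fun e => ha (e ▸ hb)
          have hac : a ≠ c := fun e => ha (e ▸ hc)
          by_cases hbc : b = c
          · subst hbc
            refine ⟨b, hb, q, hq, Or.inr ?_⟩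
            nth_rw 1 [← hinv a b hab]; rwa [inv_mul_cancel_left]
          refine ⟨c, hc, (swap c b, T c b) * q, mul_mem (hgen A c b hc hb (Ne.symm hbc)) hq,
            Or.inl ?_⟩
          rw [← mul_assoc, ← mul_assoc, hmv a c c b hac (Ne.symm hbc), swap_apply_right,
            swap_apply_of_ne_of_ne hab.symm hbc]
        have step2 : ∀ i ∈ insert a A, ∀ j ∈ insert a A, i ≠ j → ∀ y,
            (y ∈ K A ∨ ∃ b ∈ A, ∃ q ∈ K A, y = (swap a b, T a b) * q) →
            ((swap i j, T i j) * y ∈ K A ∨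
              ∃ b ∈ A, ∃ q ∈ K A, (swap i j, T i j) * y = (swap a b, T a b) * q) := by
          intro i hi j hj hij y ih'
          rcases Finset.mem_insert.1 hi with rfl | hi'
          · obtain ⟨c, hc, q, hq, e | e⟩ :=
              step j ((Finset.mem_insert.1 hj).resolve_left hij.symm) y ih'
            · exact Or.inr ⟨c, hc, q, hq, e⟩
            · exact Or.inl e
          rcases Finset.mem_insert.1 hj with rfl | hj'
          · rw [swap_comm, ← hsym i j hij]
            obtain ⟨c, hc, q, hq, e | e⟩ := step i hi' y ih'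
            · exact Or.inr ⟨c, hc, q, hq, e⟩
            · exact Or.inl e
          have n1 : a ≠ i := fun e => ha (e ▸ hi')
          have n2 : a ≠ j := fun e => ha (e ▸ hj')
          rcases ih' with hy | ⟨b, hb, q, hq, rfl⟩
          · exact Or.inl (mul_mem (hgen A i j hi' hj' hij) hy)
          · refine Or.inr ⟨swap i j b, ?_, _, mul_mem (hgen A i j hi' hj' hij) hq, ?_⟩
            · rw [swap_apply_def]; split_ifs <;> assumption
            · rw [← mul_assoc, hmv i j a b hij (fun e => ha (e ▸ hb)),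
                swap_apply_of_ne_of_ne n1 n2, mul_assoc]
        intro p hp
        induction hp using closure_induction_left with
        | one => exact Or.inl (one_mem _)
        | mul_left x hx y _ ih' =>
          obtain ⟨i, hi, j, hj, hij, rfl⟩ := hx
          exact step2 i hi j hj hij y ih'
        | inv_mul_cancel x hx y _ ih' =>
          obtain ⟨i, hi, j, hj, hij, rfl⟩ := hx
          rw [hinv i j hij]
          exact step2 i hi j hj hij y ih'
      intro h hh
      rcases nf _ hh with h3 | ⟨b, hb, q, hq, e⟩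
      · exact ih h h3
      · have e1 := congrArg (fun p : Perm α × H => p.1 a) e
        simp only [Prod.fst_mul, Perm.mul_apply, hfix A a ha q hq, swap_apply_left,
          Perm.one_apply] at e1
        exact absurd (e1 ▸ hb) ha
  obtain ⟨φ, hφ⟩ := Subgroup.exists_eq_graph (G := K Finset.univ)
    ⟨fun a b hab => by
      have h7 := key _ (a.1.2⁻¹ * b.1.2) (by
        have := mul_mem (inv_mem a.2) b.2
        have e : a.1.1 = b.1.1 := hab
        rwa [show a.1⁻¹ * b.1 = (1, a.1.2⁻¹ * b.1.2) from Prod.ext (by simp [e]) rfl] at this)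
      exact Subtype.ext (Prod.ext hab (inv_mul_eq_one.1 h7)),
     fun σ => by
      induction σ using Perm.swap_induction_on with
      | one => exact ⟨1, rfl⟩
      | swap_mul f i j hij ih =>
        obtain ⟨q, hq⟩ := ih
        exact ⟨⟨_, hgen _ i j (Finset.mem_univ _) (Finset.mem_univ _) hij⟩ * q, by
          rw [← hq]; rfl⟩⟩
  refine ⟨φ, fun i j hij => ?_⟩
  have := hgen _ i j (Finset.mem_univ _) (Finset.mem_univ _) hij
  rw [hφ] at this; exact this

theorem hom_of_star (o : α) (t : α → H) (h1 : ∀ i, i ≠ o → t i * t i = 1)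
    (h2 : ∀ i j, i ≠ o → j ≠ o → i ≠ j → t i * t j * t i = t j * t i * t j)
    (h3 : ∀ i j k, i ≠ o → j ≠ o → k ≠ o → i ≠ j → k ≠ i → k ≠ j →
      t k * (t i * t j * t i) * t k = t i * t j * t i) :
    ∃ φ : Perm α →* H, ∀ i, i ≠ o → φ (swap o i) = t i := by
  let T : α → α → H := fun i j => if i = o then t j else if j = o then t i else t i * t j * t i
  have c1 : ∀ m, m ≠ o → ∀ k l, k ≠ l → t m * T k l * t m = T (swap o m k) (swap o m l) := by
    intro m hm k l hkl
    have h1' : ∀ g, t m * (t m * g) = g := fun g => by rw [← mul_assoc, h1 m hm, one_mul]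
    by_cases e1 : k = o
    · subst e1
      by_cases e2 : l = m
      · subst e2; simp [T, hm, h1 l hm]
      · simp [T, hm, swap_apply_of_ne_of_ne hkl.symm e2, hkl.symm]
    by_cases e2 : l = o
    · subst e2
      by_cases e3 : k = m
      · subst e3; simp [T, hm, h1 k hm]
      · simp [T, hm, e1, swap_apply_of_ne_of_ne e1 e3, h2 m k hm e1 (Ne.symm e3)]
    by_cases e3 : k = m
    · subst e3
      simp [T, e1, e2, swap_apply_of_ne_of_ne e2 hkl.symm, mul_assoc, h1', h1 k hm]
    by_cases e4 : l = m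
    · subst e4
      simp only [T, e1, e2, swap_apply_of_ne_of_ne e1 e3, if_false, swap_apply_right, if_true]
      rw [h2 k l e1 e2 hkl]; simp [mul_assoc, h1', h1 l hm]
    simp only [T, e1, e2, swap_apply_of_ne_of_ne e1 e3, swap_apply_of_ne_of_ne e2 e4, if_false]
    exact h3 k l m e1 e2 hm hkl (Ne.symm e3) (Ne.symm e4)
  obtain ⟨φ, hφ⟩ := hom_of_swaps T (fun i j hij => by
      by_cases e1 : i = o
      · subst e1; simp [T, h1 j hij.symm]
      by_cases e2 : j = o
      · subst e2; simp [T, e1, h1 i e1]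
      simp only [T, e1, e2, if_false, mul_assoc]
      rw [← mul_assoc (t i) (t i), h1 i e1, one_mul, ← mul_assoc (t j), h1 j e2, one_mul, h1 i e1])
    (fun i j k l hij hkl => by
      by_cases e1 : i = o
      · subst e1; simpa [T] using c1 j hij.symm k l hkl
      by_cases e2 : j = o
      · subst e2; simpa [T, e1, swap_comm i] using c1 i e1 k l hkl
      have e3 : swap i j = swap o i * swap o j * swap o i := by
        rw [swap_comm o j, swap_mul_swap_mul_swap e2 hij.symm]
      have k1 := c1 i e1 k l hkl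
      have k2 := c1 j e2 _ _ (fun e => hkl ((swap o i).injective e))
      have k3 := c1 i e1 _ _ (fun e => hkl ((swap o i).injective ((swap o j).injective e)))
      rw [e3, Perm.mul_apply, Perm.mul_apply, Perm.mul_apply, Perm.mul_apply, ← k3, ← k2, ← k1]
      simp only [T, e1, e2, if_false, mul_assoc])
  exact ⟨φ, fun i hi => by rw [hφ o i hi.symm]; simp [T]⟩

theorem swap_eq_star {o i j : α} (e2 : j ≠ o) (hij : i ≠ j) :
    swap i j = swap o i * swap o j * swap o i := by
  rw [swap_comm o j, swap_mul_swap_mul_swap e2 hij.symm]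

theorem star_induction (o : α) {P : Perm α → Prop} (h1 : P 1)
    (h2 : ∀ i σ, i ≠ o → P σ → P (swap o i * σ)) (σ : Perm α) : P σ := by
  induction σ using Perm.swap_induction_on with
  | one => exact h1
  | swap_mul f i j hij ih =>
    by_cases e1 : i = o
    · subst e1; exact h2 j f hij.symm ih
    by_cases e2 : j = o
    · subst e2; rw [swap_comm]; exact h2 i f e1 ih
    rw [swap_eq_star e2 hij, mul_assoc, mul_assoc]
    exact h2 i _ e1 (h2 j _ e2 (h2 i _ e1 ih))

/-- the involution of `Bool × H` attached to an element of `H` -/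
def flp (g : H) : Perm (Bool × H) :=
  Function.Involutive.toPerm (fun p => if p.1 then (false, g⁻¹ * p.2) else (true, g * p.2))
    (by rintro ⟨_ | _, h⟩ <;> simp)

@[simp] theorem flp_false (g h : H) : flp g (false, h) = (true, g * h) := rfl
@[simp] theorem flp_true (g h : H) : flp g (true, h) = (false, g⁻¹ * h) := rfl

theorem carm1 {a b : H} (ha : a * a * a = 1) (hb : b * b * b = 1) {z : H} (hz : z ∈ center H)
    (h : a * b * a * b = z) : z ^ 3 * (a * b⁻¹ * a * b⁻¹ * a * b⁻¹) = 1 := by
  have hc : ∀ g, g * z = z * g := Subgroup.mem_center_iff.1 hz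
  have e : b⁻¹ = z⁻¹ * (a * b * a) := by rw [← h]; group
  have hc' : ∀ g, g * z⁻¹ = z⁻¹ * g := Subgroup.mem_center_iff.1 (inv_mem hz)
  have ha' : ∀ g, a * (a * (a * g)) = g := fun g => by rw [← mul_assoc, ← mul_assoc, ha, one_mul]
  have hb' : ∀ g, b * (b * (b * g)) = g := fun g => by rw [← mul_assoc, ← mul_assoc, hb, one_mul]
  have hc2 : ∀ g k, g * (z⁻¹ * k) = z⁻¹ * (g * k) := fun g k => by
    rw [← mul_assoc, hc', mul_assoc]
  rw [e]
  simp only [pow_succ, pow_zero, one_mul, mul_assoc, hc2 a, hc2 b, ha', hb', mul_inv_cancel_left]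
  simpa only [mul_assoc] using ha

theorem carm_six {a b : H} (ha : a * a * a = 1) (hb : b * b * b = 1) {z : H} (hz : z ∈ center H)
    (h : a * b * a * b = z) : z ^ 6 = 1 := by
  have h' : b * a * b * a = z := by
    have := Subgroup.mem_center_iff.1 hz a
    rw [← mul_left_cancel_iff (a := a), this, ← h]; simp only [mul_assoc]
  have e1 := carm1 ha hb hz h
  have e2 := carm1 hb ha hz h'
  rw [← eq_inv_iff_mul_eq_one] at e1
  rw [show b * a⁻¹ * b * a⁻¹ * b * a⁻¹ = (a * b⁻¹ * a * b⁻¹ * a * b⁻¹)⁻¹ by group, ← e1,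
    ← pow_add] at e2
  exact e2

/-- Carmichael's presentation of the alternating group, as a splitting criterion. -/
theorem exists_section (π : H →* alternatingGroup α) {o s : α} (hs : s ≠ o) (x : α → H)
    (hx : ∀ i, i ≠ o → i ≠ s → (π (x i) : Perm α) = swap o s * swap o i)
    (h1 : ∀ i, i ≠ o → i ≠ s → x i * x i * x i = 1)
    (h2 : ∀ i j, i ≠ o → i ≠ s → j ≠ o → j ≠ s → i ≠ j → x i * x j * x i * x j = 1) :
    ∃ ψ : alternatingGroup α →* H, ∀ a, π (ψ a) = a := by
  let L : α → H := fun i => if i = s then 1 else x i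
  have hL : ∀ i, i ≠ o → (π (L i) : Perm α) = swap o s * swap o i := fun i hi => by
    by_cases e : i = s
    · simp [L, e]
    · simp [L, e, hx i hi e]
  have i1 : ∀ i, i ≠ o → i ≠ s → (x i)⁻¹ = x i * x i := fun i a b =>
    inv_eq_of_mul_eq_one_left (h1 i a b)
  have r1 : ∀ i j, i ≠ o → j ≠ o → i ≠ j → L i * (L j)⁻¹ * L i = L j * (L i)⁻¹ * L j := by
    intro i j hi hj hij
    by_cases e1 : i = s
    · subst e1; simp [L, hij.symm, i1 j hj hij.symm]
    by_cases e2 : j = s
    · subst e2; simp [L, e1, i1 i hi e1]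
    simp only [L, e1, e2, if_false]
    have := carm1 (h1 i hi e1) (h1 j hj e2) (one_mem _) (h2 i j hi e1 hj e2 hij)
    rw [one_pow, one_mul] at this
    rw [← mul_inv_eq_one, ← this]; group
  have r2 : ∀ i j k, i ≠ o → j ≠ o → k ≠ o → i ≠ j → k ≠ i → k ≠ j →
      L k * (L i * (L j)⁻¹ * L i)⁻¹ * L k = L i * (L j)⁻¹ * L i := by
    intro i j k hi hj hk hij hki hkj
    have q : ∀ i j, i ≠ o → i ≠ s → j ≠ o → j ≠ s → i ≠ j → x i * x j * x i = (x j)⁻¹ :=
      fun i j a b c d e => eq_inv_of_mul_eq_one_left (h2 i j a b c d e)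
    by_cases e1 : i = s
    · subst e1; simp [L, hij.symm, hki, q k j hk hki hj hij.symm hkj]
    by_cases e2 : j = s
    · subst e2
      simp only [L, e1, hkj, if_false, if_true, inv_one, mul_one]
      rw [← i1 i hi e1, inv_inv, q k i hk hkj hi e1 hki]
    have q2 : x i * (x j)⁻¹ * x i = (x i)⁻¹ * x j * (x i)⁻¹ := by
      rw [← q i j hi e1 hj e2 hij, i1 i hi e1]; simp only [mul_assoc]
    by_cases e3 : k = s
    · subst e3
      simp only [L, e1, e2, if_false, if_true, one_mul, mul_one]
      nth_rw 2 [q2]; group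
    simp only [L, e1, e2, e3, if_false]
    have q3 : x k * (x i)⁻¹ = (x i)⁻¹ * ((x k)⁻¹ * x i) := by
      rw [← q i k hi e1 hk e3 hki.symm, i1 i hi e1]
      simp only [mul_assoc]; rw [← mul_assoc (x i) (x i) (x i * _), ← mul_assoc (x i * x i), h1 i hi e1,
        one_mul]
    have q4 : (x i)⁻¹ * x k = x i * ((x k)⁻¹ * (x i)⁻¹) := by
      rw [← q i k hi e1 hk e3 hki.symm, i1 i hi e1]
      simp only [mul_assoc]; rw [← mul_assoc (x i) (x i) (x i), h1 i hi e1, mul_one]
    have q5 : x i * (x j * x i) = (x j)⁻¹ := by rw [← mul_assoc, q i j hi e1 hj e2 hij]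
    have q6 : (x k)⁻¹ * ((x j)⁻¹ * (x k)⁻¹) = x j := by
      refine inv_injective (Eq.trans ?_ (q k j hk e3 hj e2 hkj)); group
    calc x k * (x i * (x j)⁻¹ * x i)⁻¹ * x k = (x k * (x i)⁻¹) * x j * ((x i)⁻¹ * x k) := by group
      _ = (x i)⁻¹ * ((x k)⁻¹ * ((x i * (x j * x i)) * (x k)⁻¹)) * (x i)⁻¹ := by
        rw [q3, q4]; group
      _ = _ := by rw [q5, q6, q2]
  obtain ⟨φ, hφ⟩ := hom_of_star o (fun i => flp (L i))
    (fun i _ => by ext1 ⟨_ | _, h⟩ <;> simp)
    (fun i j hi hj hij => by
      have := r1 i j hi hj hij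
      ext1 ⟨_ | _, h⟩
      · simp [← mul_assoc, this]
      · have := congrArg (·⁻¹) this
        simp only [mul_inv_rev, inv_inv, ← mul_assoc] at this
        simp [← mul_assoc, this])
    (fun i j k hi hj hk hij hki hkj => by
      have := r2 i j k hi hj hk hij hki hkj
      simp only [mul_inv_rev, inv_inv, ← mul_assoc] at this
      ext1 ⟨_ | _, h⟩
      · simp [← mul_assoc, this]
      · have := congrArg (·⁻¹) this
        simp only [mul_inv_rev, inv_inv, ← mul_assoc] at this
        simp [← mul_assoc, this])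
  let ev : Bool × H → Perm α := fun p => if p.1 then swap o s * π p.2 else π p.2
  have k1 : ∀ σ p, ev (φ σ p) = σ * ev p := by
    intro σ
    induction σ using star_induction o with
    | h1 => simp
    | h2 i σ hi ih =>
      intro p
      rw [map_mul, Perm.mul_apply, mul_assoc, ← ih, hφ i hi]
      obtain ⟨_ | _, h⟩ := φ σ p
      · simp [ev, hL i hi, ← mul_assoc]
      · simp [ev, hL i hi, ← mul_assoc]
  have k2 : ∀ σ p g, φ σ (p.1, p.2 * g) = ((φ σ p).1, (φ σ p).2 * g) := by
    intro σ
    induction σ using star_induction o with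
    | h1 => simp
    | h2 i σ hi ih =>
      intro p g
      rw [map_mul, Perm.mul_apply, Perm.mul_apply, ih, hφ i hi]
      obtain ⟨_ | _, h⟩ := φ σ p <;> simp [mul_assoc]
  have k3 : ∀ (a : alternatingGroup α) g, φ a (false, g) = (false, (φ a (false, 1)).2 * g) ∧
      π (φ a (false, 1)).2 = a := by
    intro a g
    have e1 := k1 a (false, 1)
    have e2 := k2 a (false, 1) g
    simp only [one_mul] at e2
    rw [e2]
    generalize φ a (false, 1) = p at *
    obtain ⟨_ | _, h⟩ := p
    · exact ⟨rfl, Subtype.ext (by simpa [ev] using e1)⟩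
    · have := congrArg Perm.sign e1
      simp [ev, Perm.sign_swap hs.symm, Perm.mem_alternatingGroup.1 a.2,
        Perm.mem_alternatingGroup.1 (π h).2] at this
  refine ⟨MonoidHom.mk' (fun a => (φ a (false, 1)).2) (fun a b => ?_), fun a => (k3 a 1).2⟩
  rw [Subgroup.coe_mul, map_mul, Perm.mul_apply, (k3 b 1).1, (k3 a _).1, mul_one]

end Cfsg.Agent.Cov
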